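import Cfsg.Agent.Lib.StructC.Rudvalis.Ker
import Cfsg.Agent.Lib.Coprime.Schur

/-!
The derived subgroup of the automorphism group of the rank 28 lattice from a certificate for its
Sylow 2-subgroup: it has index 2, is perfect, and covers `Ru` twice.
-/

set_option autoImplicit false
set_option linter.style.haveILetI false

namespace CfsgLib.StructC.Rudvalis

open Cfsg.Spor CfsgLib.Ru MulAction
open CfsgLib.KnownA.SchurCert (Ops Ev wprod)
open CfsgLib.StructC.SchurRewrite (Cert tailGroup blt_lt)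
open scoped commutatorElement

attribute [local irreducible] CfsgLib.Ru.minV CfsgLib.Ru.img CfsgLib.Ru.keyOf CfsgLib.Ru.hipX
  CfsgLib.Ru.applyW

/-- The derived subgroup. -/
noncomputable abbrev DRu : Subgroup fourRu := commutator fourRu

/-- No word uses the scalar. -/
def noScalar (ws : List (List ℤ)) : Bool := ws.all fun w => w.all fun i => decide (-3 ≤ i ∧ i ≤ 2)

/-- The checks of the certificate for the Sylow 2-subgroup. -/
def sylOK (C : Cert) (ws : List (List ℤ)) (Ls : List RuStep) (wneg : List ℕ) : Bool :=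
  noScalar ws && Nat.ble C.n ws.length && chainOK false (ws.take C.n ++ [[3]]) Ls &&
    Nat.ble (2 ^ (C.n + 1)) (chainVal Ls) && wneg.all (fun i => Nat.blt i C.n) &&
    sameW 0 [3, 3] (flat ws wneg) && C.shapeOK && Nat.beq C.p 2 && Nat.beq C.n 15

/-- The polycyclic relations bound the order. -/
theorem card_tail_of_rels {M : Type} [Group M] [Finite M] (C : Cert) (x : ℕ → M) (hp : 0 < C.p)
    (hshape : C.shapeOK = true)
    (hrels : ∀ r < C.rels.length, wprod x (C.lhs r) = wprod x (C.rhs r))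
    (hlen : C.final.length ≤ C.rels.length) :
    Nat.card (tailGroup C.n x 0) ≤ C.p ^ C.n := by
  simp only [Cert.shapeOK, Bool.and_eq_true, Bool.or_eq_true, List.all_eq_true,
    List.mem_range] at hshape
  obtain ⟨-, hpc⟩ := hshape
  have hmem : ∀ (k : ℕ) (w : List ℕ), (∀ i ∈ w, k < i ∧ i < C.n) →
      wprod x w ∈ tailGroup C.n x (k + 1) := fun k w hw =>
    list_prod_mem fun y hy => by
      obtain ⟨i, hi, rfl⟩ := List.mem_map.1 hy
      exact Subgroup.subset_closure ⟨i, ⟨(hw i hi).1, (hw i hi).2⟩, rfl⟩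
  refine SchurRewrite.card_tail_le C.p C.n x hp (fun k hk => ?_) (fun k hk j hkj hj => ?_) C.n 0
    (zero_add _)
  · obtain ⟨⟨⟨hr, hl⟩, hw⟩, -⟩ := hpc k hk
    have h := hrels _ ((blt_lt hr).trans_le hlen)
    rw [SchurRewrite.beqW_eq hl,
      show wprod x (List.replicate C.p k) = x k ^ C.p by simp [wprod]] at h
    rw [h]
    exact hmem k _ fun i hi => ⟨blt_lt (hw i hi).1, blt_lt (hw i hi).2⟩
  · rcases (hpc k hk).2 j hj with h2 | h2
    · exact absurd (Nat.le_of_ble_eq_true h2) (by omega)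
    · obtain ⟨⟨⟨hr, hl⟩, hrr⟩, hw⟩ := h2
      have h := hrels _ ((blt_lt hr).trans_le hlen)
      rw [SchurRewrite.beqW_eq hl, SchurRewrite.beqW_eq hrr] at h
      refine ⟨_, hmem k _ fun i hi => ⟨blt_lt (hw i hi).1, blt_lt (hw i hi).2⟩, ?_⟩
      simpa [wprod] using h

theorem autI_pow_four : autI ^ 4 = 1 :=
  eq_one_of_fix fun x => Fin.ext (by rw [autI_pow_val]; omega)

theorem toRu_sup : DRu ⊔ Subgroup.center fourRu = ⊤ := by
  haveI := ru_simple
  have hmap : DRu.map toRu = ⊤ := by
    rcases Subgroup.Normal.eq_bot_or_eq_top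
      (Subgroup.Normal.map (inferInstance : DRu.Normal) toRu (QuotientGroup.mk'_surjective _))
      with h | h
    · exfalso
      have hcomm : ∀ a b : Ru, a * b = b * a := fun a b => by
        obtain ⟨a, rfl⟩ := QuotientGroup.mk'_surjective (Subgroup.center fourRu) a
        obtain ⟨b, rfl⟩ := QuotientGroup.mk'_surjective (Subgroup.center fourRu) b
        rw [← commutatorElement_eq_one_iff_mul_comm, ← map_commutatorElement, ← Subgroup.mem_bot,
          ← h]
        exact Subgroup.mem_map_of_mem _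
          (Subgroup.commutator_mem_commutator (Subgroup.mem_top a) (Subgroup.mem_top b))
      let _ : CommGroup Ru := { (inferInstance : Group Ru) with mul_comm := hcomm }
      have := IsSimpleGroup.prime_card (α := Ru)
      rw [card_Ru] at this
      exact absurd this (Nat.not_prime_of_dvd_of_ne (m := 2) (by norm_num) (by norm_num) (by norm_num))
    · exact h
  rw [eq_top_iff]
  intro g _
  obtain ⟨c, hc, e⟩ : toRu g ∈ DRu.map toRu := hmap ▸ Subgroup.mem_top _
  have hz : c⁻¹ * g ∈ Subgroup.center fourRu := by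
    rw [← QuotientGroup.eq_one_iff, ← QuotientGroup.mk'_apply, map_mul, map_inv]
    exact inv_mul_eq_one.2 e
  simpa using Subgroup.mul_mem_sup hc hz

theorem exists_DRu (g : fourRu) : ∃ c ∈ DRu, ∃ j : ℕ, g = c * autI ^ j := by
  have hg : g ∈ DRu ⊔ Subgroup.center fourRu := by
    rw [toRu_sup]
    exact Subgroup.mem_top g
  rw [← SetLike.mem_coe, Subgroup.mul_normal, Set.mem_mul] at hg
  obtain ⟨c, hc, z, hz, e⟩ := hg
  rw [SetLike.mem_coe] at hz
  rw [center_eq, Subgroup.mem_zpowers_iff] at hz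
  obtain ⟨k, hk⟩ := hz
  refine ⟨c, hc, (k % 4).toNat, ?_⟩
  rw [← e, ← hk, ← zpow_natCast autI ((k % 4).toNat),
    Int.toNat_of_nonneg (Int.emod_nonneg _ (by norm_num))]
  have h4 : (autI : fourRu) ^ (4 : ℤ) = 1 := autI_pow_four
  conv_lhs => rw [← Int.emod_add_mul_ediv k 4, zpow_add, zpow_mul, h4, one_zpow, mul_one]

theorem mem_DRu_of_pow {x : fourRu} {n : ℕ} (hn : Nat.Coprime n 4) (h : x ^ n = 1) : x ∈ DRu := by
  obtain ⟨c, hc, j, rfl⟩ := exists_DRu x
  have h1 : (QuotientGroup.mk' DRu (c * autI ^ j)) ^ n = 1 := by rw [← map_pow, h, map_one]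
  have h2 : (QuotientGroup.mk' DRu (c * autI ^ j)) ^ 4 = 1 := by
    have hc1 : QuotientGroup.mk' DRu c = 1 := (QuotientGroup.eq_one_iff c).2 hc
    rw [map_mul, hc1, one_mul, ← map_pow, ← pow_mul, mul_comm j, pow_mul, autI_pow_four, one_pow, map_one]
  have h3 := pow_gcd_eq_one.2 ⟨h1, h2⟩
  rw [hn.gcd_eq_one, pow_one] at h3
  exact (QuotientGroup.eq_one_iff _).1 h3

theorem genOf_mem {ws : List (List ℤ)} (h : noScalar ws = true) (k : ℕ) : genOf ws k ∈ DRu := by
  simp only [noScalar, List.all_eq_true, decide_eq_true_iff] at h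
  refine wordE_mem fun i hi => ?_
  have hi' : -3 ≤ i ∧ i ≤ 2 := by
    rcases Nat.lt_or_ge k ws.length with hk | hk
    · rw [List.getD_eq_getElem _ _ hk] at hi
      exact h _ (List.getElem_mem hk) i hi
    · rw [List.getD_eq_default _ _ hk] at hi
      exact absurd hi List.not_mem_nil
  have hA : genE 0 ∈ DRu := mem_DRu_of_pow (n := 13) (by norm_num) pow_A
  have hB : genE 1 ∈ DRu := mem_DRu_of_pow (n := 13) (by norm_num) pow_B
  have hC : genE 2 ∈ DRu := mem_DRu_of_pow (n := 29) (by norm_num) pow_C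
  obtain ⟨h1, h2⟩ := hi'
  interval_cases i
  exacts [inv_mem hC, inv_mem hB, inv_mem hA, hA, hB, hC]

variable {C : Cert} {ws : List (List ℤ)} {Ls : List RuStep} {wneg : List ℕ}

theorem syl_facts (h : sylOK C ws Ls wneg = true) (hrels : relsPart false C ws 0 C.rels.length = true)
    (hlen : C.final.length ≤ C.rels.length) :
    autI ∉ DRu ∧ autI ^ 2 ∈ DRu ∧ 2 ^ 15 ≤ Nat.card (tailGroup C.n (genOf ws) 0) := by
  simp only [sylOK, Bool.and_eq_true, List.all_eq_true] at h
  obtain ⟨⟨⟨⟨⟨⟨⟨⟨hno, hn⟩, hch⟩, hval⟩, hwn⟩, hneg⟩, hshape⟩, hp⟩, h15⟩ := h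
  have hp : C.p = 2 := Nat.eq_of_beq_eq_true hp
  have h15 : C.n = 15 := Nat.eq_of_beq_eq_true h15
  have hn := Nat.le_of_ble_eq_true hn
  set Q := tailGroup C.n (genOf ws) 0
  have hQ : Nat.card Q ≤ 2 ^ 15 := by
    have h' := card_tail_of_rels C (genOf ws) (by omega) hshape (fun r hr => ?_) hlen
    · rw [hp] at h'
      exact h'.trans_eq (by rw [h15])
    · simp only [relsPart, List.all_eq_true, List.mem_range'_1, cond_false] at hrels
      exact eqF_spec (hrels r ⟨Nat.zero_le _, by omega⟩)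
  have hsq : autI ^ 2 ∈ Q := by
    have e : autI ^ 2 = wprod (genOf ws) wneg := by
      rw [wprod_genOf]
      have := sameW_spec hneg
      rw [pow_zero, one_mul] at this
      rw [← this, pow_two]
      simp [wordE, genW, genE]
    rw [e]
    refine list_prod_mem fun y hy => ?_
    obtain ⟨i, hi, rfl⟩ := List.mem_map.1 hy
    exact Subgroup.subset_closure ⟨i, ⟨Nat.zero_le _, blt_lt (hwn i hi)⟩, rfl⟩
  let P : Subgroup fourRu :=
    { carrier := {g | ∃ q ∈ Q, ∃ j : ℕ, j < 2 ∧ g = q * autI ^ j}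
      one_mem' := ⟨1, Q.one_mem, 0, by norm_num, by simp⟩
      mul_mem' := fun {a b} ⟨q, hq, j, hj, ea⟩ ⟨r, hr, l, hl, eb⟩ => by
        have e : a * b = q * r * autI ^ (j + l) := by
          rw [ea, eb, pow_add, mul_assoc, ← mul_assoc (autI ^ j) r,
            (Commute.pow_left (autI_comm r) j).eq]
          group
        rcases Nat.lt_or_ge (j + l) 2 with h | h
        · exact ⟨_, Q.mul_mem hq hr, _, h, e⟩
        · refine ⟨_, Q.mul_mem (Q.mul_mem hq hr) hsq, 0, by norm_num, ?_⟩
          rw [e, show j + l = 2 by omega, pow_zero, mul_one]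
      inv_mem' := fun {a} ⟨q, hq, j, hj, ea⟩ => by
        have e : a⁻¹ = q⁻¹ * (autI ^ j)⁻¹ := by
          rw [ea, mul_inv_rev]
          exact ((Commute.pow_left (autI_comm q) j).inv_inv).eq
        interval_cases j
        · exact ⟨_, Q.inv_mem hq, 0, by norm_num, by rw [e]; simp⟩
        · refine ⟨_, Q.mul_mem (Q.inv_mem hq) (Q.inv_mem hsq), 1, by norm_num, ?_⟩
          rw [e]
          group }
  have hP : Nat.card P ≤ 2 * Nat.card Q := by
    let F : Q × Fin 2 → P := fun x => ⟨x.1 * autI ^ (x.2 : ℕ), x.1, x.1.2, _, x.2.2, rfl⟩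
    have hF : Function.Surjective F := fun ⟨g, q, hq, j, hj, e⟩ =>
      ⟨(⟨q, hq⟩, ⟨j, hj⟩), Subtype.ext e.symm⟩
    have := Nat.card_le_card_of_surjective F hF
    rw [Nat.card_prod, Nat.card_fin] at this
    omega
  have hbig : 2 ^ 16 ≤ Nat.card P := by
    refine ((h15 ▸ Nat.le_of_ble_eq_true hval).trans
      (le_card_closure false (MonoidHom.id fourRu) Function.surjective_id
        (fun a b e x => by rw [show a = b from e]) Ls _ hch)).trans ?_
    refine Subgroup.card_le_of_le ((Subgroup.closure_le _).2 ?_)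
    rintro _ ⟨i, hi, rfl⟩
    simp only [Set.mem_Iio, List.length_append, List.length_take, List.length_singleton] at hi
    show genOf (ws.take C.n ++ [[3]]) i ∈ P
    rcases Nat.lt_or_ge i C.n with hin | hin
    · refine ⟨genOf ws i, Subgroup.subset_closure ⟨i, ⟨Nat.zero_le _, hin⟩, rfl⟩, 0, by norm_num, ?_⟩
      have hiw : i < ws.length := hin.trans_le hn
      simp [genOf, List.getElem?_append, List.getElem?_take, hin, Nat.min_eq_left hn, hiw]
    · refine ⟨1, Q.one_mem, 1, by norm_num, ?_⟩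
      have : i = C.n := by omega
      simp [genOf, List.getElem?_append, this, Nat.min_eq_left hn, wordE, genW, genE]
  have hQ2 : 2 ^ 15 ≤ Nat.card Q := by omega
  refine ⟨?_, ?_, hQ2⟩
  · refine notMem_commutator_of_sylow autI_mem_center P Q ⟨1, Q.one_mem, 1, by norm_num, by simp⟩
      (fun q hq => ⟨q, hq, 0, by norm_num, by simp⟩) (fun hi => ?_) hP ?_
    · have : P ≤ Q := fun g ⟨q, hq, j, _, e⟩ => e ▸ Q.mul_mem hq (Q.pow_mem hi j)
      have := Subgroup.card_le_of_le this
      omega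
    · have hc : Nat.card P = 2 ^ 16 := by omega
      have := P.card_mul_index
      rw [hc, card_fourRu] at this
      have : P.index = 8906625 := by omega
      rw [this]
      decide
  · have : Q ≤ DRu := (Subgroup.closure_le _).2 fun y ⟨i, _, e⟩ => e ▸ genOf_mem hno i
    exact this hsq

end CfsgLib.StructC.Rudvalis
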