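import Cfsg.Agent.Lib.StructC.Rudvalis.SylFiveData
import Cfsg.Agent.Lib.StructC.Rudvalis.Ker
import Mathlib.Tactic.IntervalCases

/-!
Checks of the certificate `SylFive`.
-/

set_option autoImplicit false
set_option maxRecDepth 100000
set_option Elab.async false

namespace CfsgLib.StructC.Rudvalis.SylFive

open CfsgLib.KnownA.SchurCert (bitOps modOps)

theorem base_ok : baseOK true cert words chain = true := by decide +kernel

theorem rels0_ok : relsPart true cert words 0 9 = true := by decide +kernel

theorem rels_ok : relsPart true cert words 0 cert.rels.length = true := by
  refine relsPart_of_parts true cert words 12 1 9 (by norm_num) (by decide +kernel) (by norm_num) fun j hj => ?_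
  interval_cases j
  · exact rels0_ok

theorem loops0_ok : cert.loopsPart (modOps 5 9) vecs 0 6 = true := by decide +kernel

theorem loops_ok : cert.loopsOK (modOps 5 9) vecs := by
  refine CfsgLib.StructC.ConwayKer.loopsOK_of_parts (modOps 5 9) cert vecs 20 1 (by norm_num) (by decide +kernel)
    (by decide +kernel) fun j hj => ?_
  interval_cases j
  · exact loops0_ok

theorem final_ok : cert.finalOK (modOps 5 9) vecs = true := by decide +kernel

end CfsgLib.StructC.Rudvalis.SylFive
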