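import Cfsg.Agent.Lib.StructC.Rudvalis.SylTwo
import Cfsg.Agent.Lib.StructC.Rudvalis.SylThree
import Cfsg.Agent.Lib.StructC.Rudvalis.SylFive
import Cfsg.Agent.Lib.KnownA.MultQuot

/-!
The Schur multiplier of the Rudvalis group is cyclic of order two.
-/

set_option autoImplicit false
set_option linter.style.haveILetI false

namespace CfsgLib.StructC.Rudvalis

open Cfsg.Spor CfsgLib.Ru
open CfsgLib.KnownA.SchurCert (bitOps modOps bitEv modEv multiplier_one wprod)
open CfsgLib.StructC.SchurRewrite (Cert tailGroup blt_lt)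
open scoped commutatorElement

theorem autI_facts : autI ∉ DRu ∧ autI ^ 2 ∈ DRu ∧
    2 ^ 15 ≤ Nat.card (tailGroup SylTwo.cert.n (genOf SylTwo.words) 0) :=
  syl_facts SylTwo.syl_ok SylTwo.rels_ok SylTwo.len_ok

theorem index_DRu : DRu.index = 2 := by
  obtain ⟨hi, hi2, -⟩ := autI_facts
  rw [Subgroup.index_eq_two_iff]
  refine ⟨autI, fun g => ?_⟩
  obtain ⟨c, hc, j, rfl⟩ := exists_DRu g
  have hb : ∀ j : ℕ, autI ^ j ∈ DRu ↔ Even j := by
    intro j
    obtain ⟨k, rfl⟩ | ⟨k, rfl⟩ := Nat.even_or_odd j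
    · rw [← two_mul, pow_mul]
      exact iff_of_true (pow_mem hi2 k) (even_two_mul k)
    · rw [pow_succ, pow_mul, Subgroup.mul_mem_cancel_left _ (pow_mem hi2 k)]
      exact iff_of_false hi (Nat.not_even_two_mul_add_one k)
  rw [mul_assoc, ← pow_succ, Subgroup.mul_mem_cancel_left _ hc, Subgroup.mul_mem_cancel_left _ hc,
    hb, hb]
  rcases Nat.even_or_odd j with h | h
  · exact Or.inr ⟨h, Nat.not_even_iff_odd.2 h.add_one⟩
  · exact Or.inl ⟨h.add_one, Nat.not_even_iff_odd.2 h⟩

theorem card_DRu : Nat.card DRu = 291852288000 := by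
  have h := DRu.card_mul_index
  rw [index_DRu, card_fourRu] at h
  omega

theorem perfect_DRu : commutator DRu = ⊤ := by
  rw [eq_top_iff]
  have key : DRu ≤ (commutator DRu).map DRu.subtype := by
    rw [Subgroup.map_subtype_commutator]
    show commutator fourRu ≤ _
    rw [_root_.commutator_def, Subgroup.commutator_le]
    intro a _ b _
    obtain ⟨c, hc, j, rfl⟩ := exists_DRu a
    obtain ⟨d, hd, l, rfl⟩ := exists_DRu b
    have hcen : ∀ (x : fourRu) (j : ℕ), x⁻¹ * (x * autI ^ j) ∈ Subgroup.center fourRu := fun x j => by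
      rw [inv_mul_cancel_left]
      exact pow_mem autI_mem_center j
    rw [← CfsgLib.Schur.commutatorElement_congr (hcen c j) (hcen d l)]
    exact Subgroup.commutator_mem_commutator hc hd
  intro x _
  obtain ⟨y, hy, e⟩ := key x.2
  rwa [← Subtype.ext (show (y : fourRu) = x from e)]

/-- The double cover. -/
noncomputable abbrev cover : DRu →* Ru := toRu.comp DRu.subtype

theorem cover_stem : Cfsg.IsStemExtension cover := by
  refine ⟨fun q => ?_, fun x hx => ?_, fun x _ => by rw [perfect_DRu]; exact Subgroup.mem_top x⟩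
  · obtain ⟨g, rfl⟩ := QuotientGroup.mk'_surjective _ q
    obtain ⟨c, hc, j, rfl⟩ := exists_DRu g
    refine ⟨⟨c, hc⟩, ?_⟩
    show toRu c = toRu (c * autI ^ j)
    rw [map_mul, map_pow, toRu_autI, one_pow, mul_one]
  · have hz : (x : fourRu) ∈ Subgroup.center fourRu := (QuotientGroup.eq_one_iff _).1 hx
    exact Subgroup.mem_center_iff.2 fun g => Subtype.ext (Subgroup.mem_center_iff.1 hz g)

theorem card_cover_ker : Nat.card cover.ker = 2 := by
  have h := cover.ker.card_mul_index
  rw [Subgroup.index_ker, MonoidHom.range_eq_top.2 cover_stem.1, Subgroup.card_top, card_Ru,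
    card_DRu, show (291852288000 : ℕ) = 2 * 145926144000 by norm_num] at h
  exact Nat.eq_of_mul_eq_mul_right (by norm_num) h

theorem prime_cases_ru {p : ℕ} (hp : p.Prime) (h : p ∣ 145926144000) :
    p = 2 ∨ p = 3 ∨ p = 5 ∨ p = 7 ∨ p = 13 ∨ p = 29 := by
  rw [show (145926144000 : ℕ) = 2 ^ 14 * (3 ^ 3 * (5 ^ 3 * (7 * (13 * 29)))) by norm_num] at h
  have hd : ∀ q : ℕ, q.Prime → p ∣ q → p = q := fun q hq => (Nat.prime_dvd_prime_iff_eq hp hq).1
  rcases (Nat.Prime.dvd_mul hp).1 h with h | h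
  · exact Or.inl (hd 2 (by norm_num) (hp.dvd_of_dvd_pow h))
  rcases (Nat.Prime.dvd_mul hp).1 h with h | h
  · exact Or.inr (Or.inl (hd 3 (by norm_num) (hp.dvd_of_dvd_pow h)))
  rcases (Nat.Prime.dvd_mul hp).1 h with h | h
  · exact Or.inr (Or.inr (Or.inl (hd 5 (by norm_num) (hp.dvd_of_dvd_pow h))))
  rcases (Nat.Prime.dvd_mul hp).1 h with h | h
  · exact Or.inr (Or.inr (Or.inr (Or.inl (hd 7 (by norm_num) h))))
  rcases (Nat.Prime.dvd_mul hp).1 h with h | h
  · exact Or.inr (Or.inr (Or.inr (Or.inr (Or.inl (hd 13 (by norm_num) h)))))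
  · exact Or.inr (Or.inr (Or.inr (Or.inr (Or.inr (hd 29 (by norm_num) h)))))

/-- Stem extensions of `Ru` with kernels of odd prime exponent are trivial. -/
theorem ker_ru_odd {p : ℕ} (hp : p.Prime) (hdvd : p ∣ 145926144000) (hp2 : p ≠ 2)
    {Γ : Type} [Group Γ] [Finite Γ] {σ : Γ →* Ru} (hσ : Cfsg.IsStemExtension σ)
    (hexp : ∀ x ∈ σ.ker, x ^ p = 1) : σ.ker = ⊥ := by
  haveI : Finite Ru := Nat.finite_of_card_ne_zero (by rw [card_Ru]; norm_num)
  have hcyc : (∀ h : p = 7 ∨ p = 13 ∨ p = 29, σ.ker = ⊥) := fun h => by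
    refine ConwayKer.ker_eq_bot_sq hp (by rw [card_Ru]; exact hdvd) ?_ hσ hexp
    rw [card_Ru]
    rcases h with rfl | rfl | rfl <;> norm_num
  rcases prime_cases_ru hp hdvd with rfl | rfl | rfl | h | h | h
  · exact absurd rfl hp2
  · exact ker_eq_bot_ru (modOps 3 9) SylThree.cert Nat.prime_three (fun τ h => ⟨modEv 3 9 τ h⟩)
      SylThree.words SylThree.chain SylThree.base_ok SylThree.rels_ok (by decide +kernel)
      SylThree.vecs SylThree.loops_ok SylThree.final_ok hσ hexp
  · exact ker_eq_bot_ru (modOps 5 9) SylFive.cert Nat.prime_five (fun τ h => ⟨modEv 5 9 τ h⟩)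
      SylFive.words SylFive.chain SylFive.base_ok SylFive.rels_ok (by decide +kernel)
      SylFive.vecs SylFive.loops_ok SylFive.final_ok hσ hexp
  · exact hcyc (Or.inl h)
  · exact hcyc (Or.inr (Or.inl h))
  · exact hcyc (Or.inr (Or.inr h))

theorem multiplier_DRu : Cfsg.HasCyclicSchurMultiplier DRu 1 := by
  haveI : Finite Ru := Nat.finite_of_card_ne_zero (by rw [card_Ru]; norm_num)
  refine multiplier_one fun p hp hdvd Γ _ _ σ hσ hexp => ?_
  rw [card_DRu] at hdvd
  rcases eq_or_ne p 2 with rfl | hp2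
  · have hsyl := SylTwo.syl_ok
    simp only [sylOK, Bool.and_eq_true] at hsyl
    have hno := hsyl.1.1.1.1.1.1.1.1
    have hshape := hsyl.1.1.2
    obtain ⟨-, -, hlow⟩ := autI_facts
    let gen : ℕ → DRu := fun k => ⟨genOf SylTwo.words k, genOf_mem hno k⟩
    refine SchurRewrite.ker_eq_bot gen bitOps SylTwo.cert Nat.prime_two (fun τ h => ⟨bitEv _ τ h⟩)
      (fun r hr => ?_) ?_ (by rw [card_DRu]; decide +kernel) hshape SylTwo.vecs SylTwo.loops_ok
      SylTwo.final_ok hσ hexp
    · have hrels := SylTwo.rels_ok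
      obtain ⟨i, hi, rfl⟩ := List.getElem_of_mem hr
      simp only [relsPart, List.all_eq_true, List.mem_range'_1, cond_false] at hrels
      have e := eqF_spec (hrels i ⟨Nat.zero_le _, by omega⟩)
      simp only [Cert.lhs, Cert.rhs, List.getD_eq_getElem _ _ hi] at e
      refine DRu.subtype_injective ?_
      rw [CfsgLib.KnownA.SchurCert.map_wprod, CfsgLib.KnownA.SchurCert.map_wprod]
      exact e
    · have hmap : (tailGroup SylTwo.cert.n gen 0).map DRu.subtype =
          tailGroup SylTwo.cert.n (genOf SylTwo.words) 0 := by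
        rw [MonoidHom.map_closure, Set.image_image]
        rfl
      refine (show SylTwo.cert.p ^ SylTwo.cert.n = 2 ^ 15 from rfl).le.trans (hlow.trans_eq ?_)
      rw [← hmap, Subgroup.card_map_of_injective DRu.subtype_injective]
  · refine ConwayKer.ker_eq_bot_of_quot cover cover_stem.1 cover_stem.2.1 perfect_DRu (m := 2)
      (fun x hx => ?_) ((Nat.coprime_primes hp Nat.prime_two).2 hp2) (fun Δ _ _ τ hτ he => ?_) hσ hexp
    · have := pow_card_eq_one' (G := cover.ker) (x := ⟨x, hx⟩)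
      rw [card_cover_ker] at this
      exact congrArg Subtype.val this
    · refine ker_ru_odd hp ?_ hp2 hτ he
      rw [show (291852288000 : ℕ) = 2 * 145926144000 by norm_num] at hdvd
      exact ((Nat.coprime_primes hp Nat.prime_two).2 hp2).dvd_of_dvd_mul_left hdvd

theorem multiplier_Ru : Cfsg.HasCyclicSchurMultiplier Ru 2 := by
  haveI : Finite Ru := Nat.finite_of_card_ne_zero (by rw [card_Ru]; norm_num)
  haveI : Fact (Nat.Prime 2) := ⟨Nat.prime_two⟩
  exact CfsgLib.KnownA.hasCyclicSchurMultiplier_of_cover cover_stem 2 card_cover_ker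
    (isCyclic_of_prime_card card_cover_ker) multiplier_DRu

end CfsgLib.StructC.Rudvalis
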