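import Cfsg.Agent.Lib.StructC.Rudvalis.Ker

/-!
Certificate data for the Schur multiplier of the Rudvalis group: `SylFive`.
-/

set_option autoImplicit false
set_option maxRecDepth 100000

namespace CfsgLib.StructC.Rudvalis.SylFive

open CfsgLib.StructC.SchurRewrite (Cert)

/-- The relations. -/
def rels : List (List ℕ × List ℕ) :=
  [([0,0,0,0,0],[]),
    ([1,0],[0,1,2]),
    ([2,0],[0,2]),
    ([1,1,1,1,1],[]),
    ([2,1],[1,2]),
    ([2,2,2,2,2],[]),
    ([3,0],[0,0,0,1,1,3]),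
    ([3,1],[1,1,2,2,3]),
    ([3,2],[2,3])]

/-- The loops. -/
def loops : List (List ℕ × List (ℕ × Bool × ℕ) × List (ℕ × Bool × ℕ)) :=
  [([1,1,1,1,1,0],[(3,false,0)],[(1,false,4),(1,false,3),(1,false,2),(1,false,1),(1,false,0),(4,false,2),(4,false,4),(4,false,3),(4,false,6),(4,false,5),(4,false,4),(4,false,8),(4,false,7),(4,false,6),(4,false,5),(3,false,1),(5,false,1)]),
    ([3,0,0,0,0,0],[(6,false,0),(6,false,5),(6,false,10),(6,false,15),(6,false,20),(1,false,4),(1,false,3),(4,false,5),(2,false,7),(2,false,6),(1,false,5),(1,false,4),(0,false,0),(4,false,1),(2,false,5),(2,false,4),(2,false,3),(2,false,2),(1,false,1),(1,false,0),(4,false,2),(5,false,3),(4,false,3),(4,false,4),(2,false,5),(1,false,4),(1,false,3),(1,false,2),(1,false,1),(4,false,3),(4,false,5),(4,false,4),(4,false,7),(4,false,6),(4,false,5),(5,false,6),(1,false,5),(1,false,4),(1,false,3),(1,false,2),(4,false,4),(4,false,6),(4,false,5),(4,false,8),(4,false,7),(4,fal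se,6),(2,false,10),(2,false,9),(2,false,8),(2,false,7),(1,false,6),(1,false,5),(1,false,4),(1,false,3),(4,false,5),(4,false,7),(4,false,6),(4,false,9),(4,false,8),(4,false,7),(5,false,8),(4,false,10),(4,false,9),(4,false,8),(3,false,4),(4,false,6),(4,false,5),(4,false,4),(2,false,7),(2,false,6),(2,false,5),(1,false,4),(0,false,0),(2,false,4),(2,false,3),(2,false,2),(2,false,1),(1,false,0),(5,false,2),(1,false,1),(4,false,3),(4,false,4),(2,false,5),(1,false,4),(1,false,3),(1,false,2),(4,false,4),(4,false,6),(4,false,5),(2,false,9),(2,false,8),(2,false,7),(2,false,6),(1,false,5),(1,false,4),(1,false,3),(4,false,5),(4,false,7),(4,false,6),(5,false,7),(2,false,8),(2,false,7),(1,false,6),(1,false,5),(1,false,4),(0,false,0),(4,false,1),(4,false,3),(4,false,2),(5,false,3),(3,false,0)],[(0,false,1)]),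
    ([3,1,0],[(7,false,0),(6,false,4),(2,false,3),(2,false,2),(1,false,1),(1,false,0),(4,false,2),(2,false,6),(2,false,5),(2,false,4),(2,false,3),(1,false,2),(1,false,1),(4,false,3),(5,false,4),(2,false,4),(1,false,3),(1,false,2),(4,false,4),(4,false,7),(4,false,6),(4,false,5),(4,false,8),(4,false,7),(4,false,6)],[(1,false,1),(6,false,0),(7,false,5),(8,false,9)]),
    ([3,2,0],[(8,false,0),(6,false,1),(2,false,0),(2,false,1),(2,false,2),(4,false,3),(4,false,4)],[(2,false,1),(6,false,0),(8,false,5)]),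
    ([3,1,1,1,1,1],[(7,false,0),(7,false,4),(7,false,8),(7,false,12),(7,false,16),(4,false,3),(4,false,2),(4,false,4),(4,false,3),(4,false,7),(4,false,6),(4,false,5),(4,false,4),(3,false,0),(4,false,3),(4,false,2),(4,false,1),(4,false,0),(5,false,1),(4,false,1),(4,false,2),(4,false,5),(4,false,4),(4,false,3),(4,false,6),(4,false,5),(4,false,4),(3,false,0),(5,false,0)],[(3,false,1)]),
    ([3,2,1],[(8,false,0),(7,false,1),(4,false,0),(4,false,1)],[(4,false,1),(7,false,0),(8,false,4)])]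

/-- The certificate. -/
def cert : Cert where
  p := 5
  n := 3
  m := 4
  rels := rels
  defn := [none,none,some 1,none]
  pwI := [0,3,5]
  cmI := [[0,1,2],[0,0,4],[0,0,0]]
  loops := loops
  final := [
    [(0,1),(1,3),(4,4)],
    [(6,1)],
    [(3,3),(5,4)],
    [(0,2),(4,1)],
    [(5,1)],
    [(0,4)]]

/-- The vectors of the loops. -/
def vecs : List ((List ℕ) × (List ℕ)) :=
  [([0,0,0,1,0,0,0,0,0],[0,0,0,1,0,1,0,0,0]),
    ([3,0,0,2,0,1,0,0,0],[1,0,0,0,0,0,0,0,0]),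
    ([0,1,2,0,4,1,1,1,0],[0,1,0,0,0,0,1,1,1]),
    ([0,0,3,0,2,0,1,0,1],[0,0,1,0,0,0,1,0,1]),
    ([0,0,0,2,0,2,0,0,0],[0,0,0,1,0,0,0,0,0]),
    ([0,0,0,0,2,0,0,1,1],[0,0,0,0,1,0,0,1,1])]

/-- The words of the letters. -/
def words : List (List ℤ) :=
  [[-2,-1,2,-1,-3,1,0,-3,-2,-1,1,2,-1,-1,2,-2,0],
    [3,3,1,1,1,-3,-2,-1,-1,-3,1,-1,-1,-2,2,0,1,1,1],
    [0,-2,2,2,2,1,2,2,2,0,0,-2,-1,-3,-3,-1,-2,0],
    [0,-2,2,-2,-1,1,-3,-3,1,-1,-2,-2,-2,-2,0,1,0]]

/-- The chain of orbits. -/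
def chain : List RuStep :=
  [{ v := 1932, tree := [(0,0),(0,0),(0,1),(1,0),(1,1)],
      pts := [1932,4877,5278,7619,7060],
      next := [[0,-2,2,2,2,1,2,2,2,0,0,-2,-1,-3,-3,-1,-2,0],[0,-2,0,-2,-2,-1,1,2,0,0,2,-2,-2,-3,-3,-1,2,1]],
      words := [[2],[1,0,0]] },
    { v := 128, tree := [(0,0),(0,0),(0,1),(1,0),(1,1)],
      pts := [128,2543,2610,3932,1862],
      next := [[1,2,2,-1,-1,2,-2,2,1,-3,1,2,-2,-2,-1,1,-3,0]],
      words := [[1,0,0]] },
    { v := 0, tree := [(0,0),(0,0),(1,0),(2,0),(3,0)],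
      pts := [0,15869,9910,13924,9968],
      next := [],
      words := [] }]

end CfsgLib.StructC.Rudvalis.SylFive
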