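import Cfsg.Agent.Lib.StructC.Rudvalis.Ker

/-!
Certificate data for the Schur multiplier of the Rudvalis group: `SylThree`.
-/

set_option autoImplicit false
set_option maxRecDepth 100000

namespace CfsgLib.StructC.Rudvalis.SylThree

open CfsgLib.StructC.SchurRewrite (Cert)

/-- The relations. -/
def rels : List (List ℕ × List ℕ) :=
  [([0,0,0],[]),
    ([1,0],[0,1,2]),
    ([2,0],[0,2]),
    ([1,1,1],[]),
    ([2,1],[1,2]),
    ([2,2,2],[]),
    ([3,0],[0,0,1,2,2,3]),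
    ([3,1],[0,1,3]),
    ([3,2],[2,3])]

/-- The loops. -/
def loops : List (List ℕ × List (ℕ × Bool × ℕ) × List (ℕ × Bool × ℕ)) :=
  [([1,1,1,0],[(3,false,0)],[(1,false,2),(1,false,1),(1,false,0),(4,false,2),(4,false,4),(4,false,3),(3,false,1),(5,false,1)]),
    ([3,0,0,0],[(6,false,0),(6,false,5),(6,false,10),(2,false,4),(2,false,3),(1,false,2),(0,false,0),(5,false,1),(1,false,0),(4,false,2),(5,false,3),(1,false,2),(1,false,1),(4,false,3),(2,false,5),(2,false,4),(1,false,3),(1,false,2),(0,false,0),(4,false,1),(5,false,2),(4,false,2),(3,false,0),(5,false,0)],[(0,false,1)]),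
    ([3,1,0],[(7,false,0),(6,false,2),(1,false,1),(2,false,3),(1,false,2),(0,false,0),(4,false,2),(4,false,1),(5,false,2)],[(1,false,1),(6,false,0),(7,false,5),(8,false,7),(2,false,4),(2,false,3),(1,false,2),(0,false,0),(5,false,1)]),
    ([3,2,0],[(8,false,0),(6,false,1),(2,false,0),(2,false,1),(4,false,2),(5,false,3)],[(2,false,1),(6,false,0),(8,false,5),(5,false,3)]),
    ([3,1,1,1],[(7,false,0),(7,false,2),(7,false,4),(1,false,1),(4,false,3),(2,false,4),(1,false,3),(1,false,2),(0,false,0),(4,false,1),(5,false,2),(3,false,0)],[(3,false,1)]),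
    ([3,2,1],[(8,false,0),(7,false,1),(2,false,0),(4,false,1)],[(4,false,1),(7,false,0),(8,false,2)])]

/-- The certificate. -/
def cert : Cert where
  p := 3
  n := 3
  m := 4
  rels := rels
  defn := [none,none,some 1,none]
  pwI := [0,3,5]
  cmI := [[0,1,2],[0,0,4],[0,0,0]]
  loops := loops
  final := [
    [(0,1),(3,1),(4,1),(5,1)],
    [(6,1)],
    [(5,1)],
    [(1,1),(3,1),(4,2),(5,2)],
    [(3,1),(5,2)],
    [(0,2)]]

/-- The vectors of the loops. -/
def vecs : List ((List ℕ) × (List ℕ)) :=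
  [([0,0,0,1,0,0,0,0,0],[0,0,0,1,0,1,0,0,0]),
    ([2,0,1,1,1,1,0,0,0],[1,0,0,0,0,0,0,0,0]),
    ([1,2,1,0,2,1,1,1,0],[1,2,2,0,0,1,1,1,1]),
    ([0,0,2,0,1,1,1,0,1],[0,0,1,0,0,1,1,0,1]),
    ([1,0,1,1,2,1,0,0,0],[0,0,0,1,0,0,0,0,0]),
    ([0,0,1,0,1,0,0,1,1],[0,0,0,0,1,0,0,1,1])]

/-- The words of the letters. -/
def words : List (List ℤ) :=
  [[3,3,-2,0,1,1,0,-2,-3,-3,-1,-2,-2,2,2,1,-3,0],
    [3,3,0,1,1,2,1,2,0,2,-2,0,2,2,-2,0,0,1],
    [0,-3,-3,-2,2,-2,-1,2,0,2,1,-1,-1,-1,-1,-2],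
    [3,3,0,-3,-2,-3,0,1,0,0,0,1,-1,2,2]]

/-- The chain of orbits. -/
def chain : List RuStep :=
  [{ v := 72, tree := [(0,0),(0,1),(0,2),(1,0),(1,1),(1,2),(2,2),(3,1),(4,0)],
      pts := [72,15664,2810,10641,13046,11688,13470,3571,5397],
      next := [[0,-3,-2,-1,1,0,1,1,0,1,2,2,2,-2,-1,1,0]],
      words := [[0]] },
    { v := 0, tree := [(0,0),(0,0),(1,0)],
      pts := [0,7608,10689],
      next := [],
      words := [] }]

end CfsgLib.StructC.Rudvalis.SylThree
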