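import Cfsg.Agent.Lib.StructC.Rudvalis.SylTwoData
import Cfsg.Agent.Lib.StructC.Rudvalis.Derived
import Mathlib.Tactic.IntervalCases

/-!
Checks of the certificate `SylTwo`.
-/

set_option autoImplicit false
set_option maxRecDepth 100000
set_option Elab.async false

namespace CfsgLib.StructC.Rudvalis.SylTwo

open CfsgLib.KnownA.SchurCert (bitOps modOps)

theorem syl_ok : sylOK cert words chain wneg = true := by decide +kernel

theorem len_ok : cert.final.length ≤ cert.rels.length := by decide +kernel

theorem rels0_ok : relsPart false cert words 0 12 = true := by decide +kernel

theorem rels1_ok : relsPart false cert words 12 12 = true := by decide +kernel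

theorem rels2_ok : relsPart false cert words 24 12 = true := by decide +kernel

theorem rels3_ok : relsPart false cert words 36 12 = true := by decide +kernel

theorem rels4_ok : relsPart false cert words 48 12 = true := by decide +kernel

theorem rels5_ok : relsPart false cert words 60 12 = true := by decide +kernel

theorem rels6_ok : relsPart false cert words 72 12 = true := by decide +kernel

theorem rels7_ok : relsPart false cert words 84 12 = true := by decide +kernel

theorem rels8_ok : relsPart false cert words 96 12 = true := by decide +kernel

theorem rels9_ok : relsPart false cert words 108 12 = true := by decide +kernel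

theorem rels10_ok : relsPart false cert words 120 12 = true := by decide +kernel

theorem rels11_ok : relsPart false cert words 132 12 = true := by decide +kernel

theorem rels12_ok : relsPart false cert words 144 12 = true := by decide +kernel

theorem rels13_ok : relsPart false cert words 156 1 = true := by decide +kernel

theorem rels_ok : relsPart false cert words 0 cert.rels.length = true := by
  refine relsPart_of_parts false cert words 12 14 157 (by norm_num) (by decide +kernel) (by norm_num) fun j hj => ?_
  interval_cases j
  · exact rels0_ok
  · exact rels1_ok
  · exact rels2_ok
  · exact rels3_ok
  · exact rels4_ok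
  · exact rels5_ok
  · exact rels6_ok
  · exact rels7_ok
  · exact rels8_ok
  · exact rels9_ok
  · exact rels10_ok
  · exact rels11_ok
  · exact rels12_ok
  · exact rels13_ok

theorem loops0_ok : cert.loopsPart bitOps vecs 0 20 = true := by decide +kernel

theorem loops1_ok : cert.loopsPart bitOps vecs 20 20 = true := by decide +kernel

theorem loops2_ok : cert.loopsPart bitOps vecs 40 20 = true := by decide +kernel

theorem loops3_ok : cert.loopsPart bitOps vecs 60 20 = true := by decide +kernel

theorem loops4_ok : cert.loopsPart bitOps vecs 80 20 = true := by decide +kernel

theorem loops5_ok : cert.loopsPart bitOps vecs 100 20 = true := by decide +kernel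

theorem loops6_ok : cert.loopsPart bitOps vecs 120 11 = true := by decide +kernel

theorem loops_ok : cert.loopsOK bitOps vecs := by
  refine CfsgLib.StructC.ConwayKer.loopsOK_of_parts bitOps cert vecs 20 7 (by norm_num) (by decide +kernel)
    (by decide +kernel) fun j hj => ?_
  interval_cases j
  · exact loops0_ok
  · exact loops1_ok
  · exact loops2_ok
  · exact loops3_ok
  · exact loops4_ok
  · exact loops5_ok
  · exact loops6_ok

theorem final_ok : cert.finalOK bitOps vecs = true := by decide +kernel

end CfsgLib.StructC.Rudvalis.SylTwo
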